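import Cfsg.Agent.Known.Pres.Alt
import Cfsg.Agent.Classical.Triangle

/-! Presentations of `A_n` and `S_n` with three generators and seven relators. -/

set_option autoImplicit false

namespace CF.Known.Pres

open Function Equiv Equiv.Perm
open FreeGroup (lift of lift_apply_of)

/-! ### A slight strengthening of Bertrand's postulate -/

theorem centralBinom_le_aux (n : ℕ) (h2 : 2 < n) (no : ∀ p : ℕ, p.Prime → n + 1 < p → 2 * n < p) :
    n.centralBinom ≤ (n + 1) * ((2 * n) ^ Nat.sqrt (2 * n) * 4 ^ (2 * n / 3)) := by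
  have n2_pos : 1 ≤ 2 * n := by omega
  let f x := x ^ n.centralBinom.factorization x
  have e1 : n.centralBinom = ∏ p ∈ insert (n + 1) (Finset.range (2 * n / 3 + 1)), f p := by
    refine (Eq.trans ?_ n.prod_pow_factorization_centralBinom).symm
    apply Finset.prod_subset
    · intro x hx
      simp only [Finset.mem_insert, Finset.mem_range] at hx ⊢
      omega
    intro x hx h2x
    simp only [Finset.mem_insert, Finset.mem_range, not_or] at hx h2x
    dsimp only [f]
    by_cases hp : x.Prime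
    · have := no x hp
      rw [Nat.factorization_centralBinom_of_two_mul_self_lt_three_mul (p := x) h2 (by omega)
        (by omega), Nat.pow_zero]
    · rw [Nat.factorization_eq_zero_of_not_prime n.centralBinom hp, Nat.pow_zero]
  rw [e1, Finset.prod_insert (by simp only [Finset.mem_range]; omega)]
  apply mul_le_mul'
  · refine (pow_right_mono₀ (by omega) ?_).trans (pow_one _).le
    exact Nat.factorization_choose_le_one (by nlinarith)
  let S := {p ∈ Finset.range (2 * n / 3 + 1) | Nat.Prime p}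
  have : ∏ x ∈ S, f x = ∏ x ∈ Finset.range (2 * n / 3 + 1), f x := by
    refine Finset.prod_filter_of_ne fun p _ h => ?_
    contrapose h; dsimp only [f]
    rw [Nat.factorization_eq_zero_of_not_prime n.centralBinom h, _root_.pow_zero]
  rw [← this, ← Finset.prod_filter_mul_prod_filter_not S (· ≤ Nat.sqrt (2 * n))]
  apply mul_le_mul'
  · refine (Finset.prod_le_prod' fun p _ => (?_ : f p ≤ 2 * n)).trans ?_
    · exact Nat.pow_factorization_choose_le (by omega)
    have : (Finset.Icc 1 (Nat.sqrt (2 * n))).card = Nat.sqrt (2 * n) := by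
      rw [Nat.card_Icc, Nat.add_sub_cancel]
    rw [Finset.prod_const]
    refine pow_right_mono₀ n2_pos ((Finset.card_le_card fun x hx => ?_).trans this.le)
    obtain ⟨h1, h2⟩ := Finset.mem_filter.1 hx
    exact Finset.mem_Icc.mpr ⟨(Finset.mem_filter.1 h1).2.one_lt.le, h2⟩
  · refine le_trans ?_ (primorial_le_four_pow (2 * n / 3))
    refine (Finset.prod_le_prod' fun p hp => (?_ : f p ≤ p)).trans ?_
    · obtain ⟨h1, h2⟩ := Finset.mem_filter.1 hp
      refine (pow_right_mono₀ (Finset.mem_filter.1 h1).2.one_lt.le ?_).trans (pow_one p).le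
      exact Nat.factorization_choose_le_one (Nat.sqrt_lt'.mp <| not_le.1 h2)
    refine Finset.prod_le_prod_of_subset_of_one_le' (Finset.filter_subset _ _) ?_
    exact fun p hp _ => (Finset.mem_filter.1 hp).2.one_lt.le

theorem exists_prime_aux (n : ℕ) (hn : 3 ≤ n) : ∃ p : ℕ, p.Prime ∧ n + 1 < p ∧ p ≤ 2 * n := by
  by_cases h : n < 2048
  · have key : ∀ p : ℕ, p.Prime → n + 1 < p → p ≤ 2 * n →
        ∃ p : ℕ, p.Prime ∧ n + 1 < p ∧ p ≤ 2 * n := fun p h1 h2 h3 => ⟨p, h1, h2, h3⟩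
    by_cases h1 : n < 4; · exact key 5 (by norm_num) (by omega) (by omega)
    by_cases h1 : n < 6; · exact key 7 (by norm_num) (by omega) (by omega)
    by_cases h1 : n < 10; · exact key 11 (by norm_num) (by omega) (by omega)
    by_cases h1 : n < 18; · exact key 19 (by norm_num) (by omega) (by omega)
    by_cases h1 : n < 30; · exact key 31 (by norm_num) (by omega) (by omega)
    by_cases h1 : n < 58; · exact key 59 (by norm_num) (by omega) (by omega)
    by_cases h1 : n < 112; · exact key 113 (by norm_num) (by omega) (by omega)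
    by_cases h1 : n < 222; · exact key 223 (by norm_num) (by omega) (by omega)
    by_cases h1 : n < 442; · exact key 443 (by norm_num) (by omega) (by omega)
    by_cases h1 : n < 882; · exact key 883 (by norm_num) (by omega) (by omega)
    by_cases h1 : n < 1758; · exact key 1759 (by norm_num) (by omega) (by omega)
    exact key 3511 (by norm_num) (by omega) (by omega)
  by_contra hno
  have h1 := centralBinom_le_aux n (by omega) fun p hp h => by
    by_contra h'
    exact hno ⟨p, hp, h, by omega⟩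
  have h2 := Nat.four_pow_lt_mul_centralBinom n (by omega)
  set s := Nat.sqrt (2 * n)
  have hs1 : s * s ≤ 2 * n := Nat.sqrt_le _
  have hs2 : 2 * n < (s + 1) * (s + 1) := Nat.lt_succ_sqrt _
  have hs : 64 ≤ s := by
    by_contra h'
    have : (s + 1) * (s + 1) ≤ 64 * 64 := Nat.mul_le_mul (by omega) (by omega)
    omega
  have hq : ∀ q : ℕ, 8 ≤ q → 8 * q + 8 ≤ 2 ^ q := by
    intro q hq
    induction q, hq using Nat.le_induction with
    | base => norm_num
    | succ k _ ih => rw [pow_succ]; omega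
  have h3 : s + 1 ≤ 2 ^ (s / 8) := (by omega : s + 1 ≤ 8 * (s / 8) + 8).trans (hq _ (by omega))
  have h4 : s / 8 * (s + 2) ≤ n - 2 * n / 3 := by
    have a1 : 8 * (s / 8) ≤ s := Nat.mul_div_le _ _
    have a2 : 2 * n ≤ 6 * (n - 2 * n / 3) := by omega
    nlinarith
  have h5 : (2 * n) ^ (s + 2) ≤ 4 ^ (n - 2 * n / 3) :=
    calc (2 * n) ^ (s + 2) ≤ (2 ^ (s / 8) * 2 ^ (s / 8)) ^ (s + 2) :=
          Nat.pow_le_pow_left (hs2.le.trans (Nat.mul_le_mul h3 h3)) _
      _ = 4 ^ (s / 8 * (s + 2)) := by rw [← mul_pow, ← pow_mul]; norm_num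
      _ ≤ _ := Nat.pow_le_pow_right (by norm_num) h4
  have h6 : n * n.centralBinom ≤ 4 ^ n :=
    calc n * n.centralBinom ≤ n * ((n + 1) * ((2 * n) ^ s * 4 ^ (2 * n / 3))) :=
          Nat.mul_le_mul_left _ h1
      _ = (n * (n + 1)) * (2 * n) ^ s * 4 ^ (2 * n / 3) := by ring
      _ ≤ (2 * n) ^ 2 * (2 * n) ^ s * 4 ^ (2 * n / 3) := by gcongr; nlinarith
      _ = (2 * n) ^ (s + 2) * 4 ^ (2 * n / 3) := by ring
      _ ≤ 4 ^ (n - 2 * n / 3) * 4 ^ (2 * n / 3) := Nat.mul_le_mul_right _ h5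
      _ = 4 ^ n := by rw [← pow_add]; congr 1; omega
  omega

theorem exists_prime_alt (n : ℕ) (hn : 7 ≤ n) :
    ∃ p : ℕ, p.Prime ∧ 5 ≤ p ∧ n + 1 ≤ 2 * p ∧ p + 2 ≤ n := by
  obtain ⟨p, hp, h1, h2⟩ := exists_prime_aux (n / 2 - 1 + n % 2) (by omega)
  have := hp.eq_two_or_odd
  exact ⟨p, hp, by omega, by omega, by omega⟩

/-! ### From the alternating to the symmetric group -/

section
variable {Ω : Type*} [Fintype Ω] [DecidableEq Ω] {H : Type*} [Group H]

/-- The homomorphism given by a partial homomorphism. -/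
def PHom.toHom {G : Type*} [Group G] {S : Subgroup G} {W : G → H} (h : PHom S W) : S →* H :=
  MonoidHom.mk' (fun g => W g) fun a b => h a a.2 b b.2

theorem exists_hom_perm {W : Perm Ω → H} (hW : PHom (alternatingGroup Ω) W) {t : Perm Ω}
    (ht : sign t = -1) {y : H} (hy : ∀ g ∈ alternatingGroup Ω, y * W g * y⁻¹ = W (t * g * t⁻¹))
    (h2 : y ^ 2 = W (t ^ 2)) : ∃ ψ : Perm Ω →* H, (∀ g ∈ alternatingGroup Ω, ψ g = W g) ∧
      ψ t = y := by
  refine ⟨MonoidHom.mk' (fun g => if sign g = 1 then W g else W (g * t⁻¹) * y) fun a b => ?_,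
    fun g hg => if_pos hg, ?_⟩
  · rcases Int.units_eq_one_or (sign a) with ha | ha <;>
      rcases Int.units_eq_one_or (sign b) with hb | hb
    · simp only [map_mul, ha, hb, mul_one, if_true]
      exact hW a ha b hb
    · rw [if_neg (by simp [ha, hb]), if_pos ha, if_neg (by simp [hb]), mul_assoc,
        hW a ha _ (by simp [mem_alternatingGroup, hb, ht]), mul_assoc]
    · rw [if_neg (by simp [ha, hb]), if_neg (by simp [ha]), if_pos hb,
        show a * b * t⁻¹ = a * t⁻¹ * (t * b * t⁻¹) by group,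
        hW _ (by simp [mem_alternatingGroup, ha, ht]) _ (by simp [mem_alternatingGroup, hb]),
        ← hy b hb]
      group
    · rw [if_pos (by simp [ha, hb]), if_neg (by simp [ha]), if_neg (by simp [hb]),
        show a * b = a * t⁻¹ * (t * (b * t⁻¹) * t⁻¹) * t ^ 2 by rw [pow_two]; group,
        hW _ (by simp [mem_alternatingGroup, ha, hb, ht]) _ (by simp [mem_alternatingGroup, ht]),
        hW _ (by simp [mem_alternatingGroup, ha, ht]) _ (by simp [mem_alternatingGroup, hb, ht]),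
        ← hy _ (by simp [mem_alternatingGroup, hb, ht]), ← h2, pow_two]
      group
  · change (if sign t = 1 then W t else W (t * t⁻¹) * y) = y
    rw [if_neg (by simp [ht]), mul_inv_cancel, hW.one, one_mul]

theorem eq_top_of_alt_le {C : Subgroup (Perm Ω)} (h : alternatingGroup Ω ≤ C) {t : Perm Ω}
    (ht : sign t = -1) (htC : t ∈ C) : C = ⊤ := by
  rw [eq_top_iff]
  intro g _
  rcases Int.units_eq_one_or (sign g) with hg | hg
  · exact h hg
  · simpa using mul_mem (h (show g * t⁻¹ ∈ alternatingGroup Ω by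
      simp [mem_alternatingGroup, hg, ht])) htC

theorem closure_alt_eq_top {ι : Type*} {x : ι → alternatingGroup Ω}
    (h : alternatingGroup Ω ≤ Subgroup.closure (Set.range fun i => (x i : Perm Ω))) :
    Subgroup.closure (Set.range x) = ⊤ := by
  rw [eq_top_iff]
  rintro ⟨g, hg⟩ -
  have : Subgroup.closure (Set.range fun i => (x i : Perm Ω)) =
      (Subgroup.closure (Set.range x)).map (alternatingGroup Ω).subtype := by
    rw [MonoidHom.map_closure, ← Set.range_comp]; rfl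
  obtain ⟨g', hg', rfl⟩ := this ▸ h hg
  exact hg'

/-- A permutation permuting the Carmichael generators cyclically up to inversion. -/
theorem exists_mate {α β : Ω} (h : α ≠ β) {T : Finset Ω} (hα : α ∉ T) (hβ : β ∉ T) (ε : ℤˣ) :
    ∃ g : Perm Ω, sign g = ε ∧ (∀ x, x ∉ insert α (insert β T) → g x = x) ∧
      ((g α = α ∧ g β = β) ∨ (g α = β ∧ g β = α)) ∧
      ∀ k ∈ T, ∀ i ∈ T, ∃ m : ℕ, (g ^ m) k = i := by
  obtain ⟨f, h1, h2, -⟩ := exists_cycle T
  by_cases hε : sign f = ε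
  · exact ⟨f, hε, fun x hx => h1 x fun h => hx (by simp [h]), .inl ⟨h1 _ hα, h1 _ hβ⟩, h2⟩
  refine ⟨f * swap α β, ?_, fun x hx => ?_, .inr ⟨by simp [h1 _ hβ], by simp [h1 _ hα]⟩,
    fun k hk i hi => ?_⟩
  · rw [map_mul, sign_swap h]
    rcases Int.units_eq_one_or (sign f) with e | e <;> rcases Int.units_eq_one_or ε with e' | e' <;>
      simp_all
  · simp only [Finset.mem_insert, not_or] at hx
    rw [Perm.mul_apply, swap_apply_of_ne_of_ne hx.1 hx.2.1, h1 x hx.2.2]
  · obtain ⟨m, rfl⟩ := h2 k hk i hi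
    refine ⟨m, ?_⟩
    have hc : Commute f (swap α β) := by
      rw [Commute, SemiconjBy, ← mul_inv_eq_iff_eq_mul, ← swap_apply_apply, h1 _ hα, h1 _ hβ]
    rw [hc.mul_pow, Perm.mul_apply, pow_apply_eq_self_of_apply_eq_self
      (swap_apply_of_ne_of_ne (a := α) (b := β) (x := k) (fun e => hα (e ▸ hk)) fun e => hβ (e ▸ hk))]

theorem altOn_le_of_mate {α β : Ω} (h : α ≠ β) {T : Finset Ω} (hα : α ∉ T) (hβ : β ∉ T)
    {g : Perm Ω} (hg : (g α = α ∧ g β = β) ∨ (g α = β ∧ g β = α)) {k : Ω}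
    (hk : ∀ i ∈ T, ∃ m : ℕ, (g ^ m) k = i) {C : Subgroup (Perm Ω)} (h1 : g ∈ C)
    (h2 : c3 α β k ∈ C) : AltOn (insert α (insert β T)) ≤ C := by
  refine altOn_le h hα hβ rfl fun i hi => ?_
  obtain ⟨m, rfl⟩ := hk i hi
  have := mul_mem (mul_mem (pow_mem h1 m) h2) (inv_mem (pow_mem h1 m))
  rw [conj_c3] at this
  have key : ((g ^ m) α = α ∧ (g ^ m) β = β) ∨ ((g ^ m) α = β ∧ (g ^ m) β = α) := by
    clear this hi
    induction m with
    | zero => simp
    | succ m ih =>
      simp only [pow_succ', Perm.mul_apply]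
      grind
  rcases key with ⟨h1, h2⟩ | ⟨h1, h2⟩
  · rwa [h1, h2] at this
  · rw [h1, h2, ← c3_inv α β] at this
    exact inv_mem_iff.1 this

theorem exists_mate_c3 {α β k : Ω} (h : α ≠ β) (h1 : k ≠ α) (h2 : k ≠ β) (ε : ℤˣ) :
    ∃ g : Perm Ω, sign g = ε ∧ alternatingGroup Ω ≤ Subgroup.closure {c3 α β k, g} := by
  have e : insert α (insert β ((Finset.univ.erase α).erase β)) = Finset.univ := by
    ext x; simp only [Finset.mem_insert, Finset.mem_erase, Finset.mem_univ]; tauto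
  obtain ⟨g, g1, -, g2, g3⟩ := exists_mate h (T := (Finset.univ.erase α).erase β) (by simp)
    (by simp) ε
  refine ⟨g, g1, ?_⟩
  rw [← altOn_univ, ← e]
  exact altOn_le_of_mate h (by simp) (by simp) g2 (g3 k (by simp [h1, h2]))
    (Subgroup.subset_closure (by simp)) (Subgroup.subset_closure (by simp))

end

namespace ADat

variable {Ω : Type} [Fintype Ω] [DecidableEq Ω] {p : ℕ} [Fact p.Prime] (D : ADat Ω p)

theorem alt_le {C : Subgroup (Perm Ω)} (ha : D.a ∈ C) (hz : c3 D.α D.β (D.e 0) ∈ C)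
    (hy : D.y ∈ C) : alternatingGroup Ω ≤ C := by
  rw [← D.altOn_U]
  refine altOn_le D.ne (by simp [mem_U]) (by simp [mem_U]) rfl fun i hi => ?_
  rw [← D.X_perm hi]
  have : ∀ i, D.X0 D.a (c3 D.α D.β (D.e 0)) i ∈ C := fun i =>
    mul_mem (mul_mem (pow_mem ha _) hz) (inv_mem (pow_mem ha _))
  simp only [X]
  split_ifs
  · exact this _
  · exact mul_mem (mul_mem hy (this _)) (inv_mem hy)

theorem exists_rels : ∃ L : List (FreeGroup (Fin 3)), L.length ≤ 7 ∧
    (∀ w ∈ L, lift ![D.a, c3 D.α D.β (D.e 0), D.y] w = 1) ∧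
    ∀ (H : Type) [Group H] (y : Fin 3 → H), (∀ w ∈ L, lift y w = 1) → ∃ W : Perm Ω → H,
      PHom (alternatingGroup Ω) W ∧ W D.a = y 0 ∧ W (c3 D.α D.β (D.e 0)) = y 1 ∧
      W (D.y ^ D.j) = y 2 ^ D.j ∧ (∀ i ∈ D.U, W (c3 D.α D.β i) = D.X (y 0) (y 1) (y 2) i) ∧
      ∀ i ∈ D.T, y 2 * W (c3 D.α D.β i) * (y 2)⁻¹ = W (c3 D.α D.β (D.y i)) := by
  obtain ⟨w, hw, hw'⟩ := exists_altWord' D.ne D.hα D.hβ
  obtain ⟨w₁, hw₁, hw₁'⟩ := exists_altWord' D.ne (T := D.U) (by simp [mem_U]) (by simp [mem_U])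
  have key : ∀ {H : Type} [Group H] (y : Fin 3 → H), (∀ u ∈ D.rels (of 0) (of 1) (of 2)
      (fun g => lift (D.X0 (of 0) (of 1)) (w g)) (lift (D.X (of 0) (of 1) (of 2)) (w₁ (D.y ^ D.j))),
      lift y u = 1) ↔ ∀ g ∈ D.rels (y 0) (y 1) (y 2) (fun g => lift (D.X0 (y 0) (y 1)) (w g))
        (lift (D.X (y 0) (y 1) (y 2)) (w₁ (D.y ^ D.j))), g = 1 := by
    intro H _ y
    have := D.map_rels (lift y) (of 0) (of 1) (of 2) (fun g => lift (D.X0 (of 0) (of 1)) (w g))
      (lift (D.X (of 0) (of 1) (of 2)) (w₁ (D.y ^ D.j)))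
    simp only [map_lift, map_X0, map_X, lift_apply_of] at this
    rw [← this, List.forall_mem_map]
  refine ⟨_, by simp [rels], (key _).2 ?_, fun H _ y hy => ⟨_, D.core (hw' H _) (hw₁' H _)
    ((key y).1 hy)⟩⟩
  simp only [Matrix.cons_val_zero, Matrix.cons_val_one, Matrix.cons_val]
  rw [hw₁ _ (D.altOn_U ▸ D.sign_y) _ fun i hi => D.X_perm hi]
  exact D.rels_perm fun g hg => hw g hg _ fun i hi => D.X0_perm hi

theorem presOn_alt (hj : D.j = 1) : ∃ x : Fin 3 → alternatingGroup Ω, PresOn x 7 ∧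
    (x 1 : Perm Ω) = c3 D.α D.β (D.e 0) := by
  obtain ⟨L, hL, h1, h2⟩ := D.exists_rels
  have hy : D.y ∈ alternatingGroup Ω := by simpa [hj] using D.sign_y
  refine ⟨![⟨D.a, D.a_mem.1⟩, ⟨_, (D.c3_mem' (D.e_mem 0)).1⟩, ⟨D.y, hy⟩], ?_, rfl⟩
  refine PresOn.of_list L hL (closure_alt_eq_top (D.alt_le ?_ ?_ ?_)) (fun w hw => ?_) ?_
  · exact Subgroup.subset_closure ⟨0, rfl⟩
  · exact Subgroup.subset_closure ⟨1, rfl⟩
  · exact Subgroup.subset_closure ⟨2, rfl⟩
  · apply Subtype.ext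
    rw [← (alternatingGroup Ω).subtype_apply, map_lift]
    refine Eq.trans ?_ (h1 w hw)
    congr 2
    ext1 i; fin_cases i <;> rfl
  · intro H _ y φ hy hgen hφ
    obtain ⟨W, hW, e0, e1, e2, -⟩ := h2 H y hy
    refine injective_of_section (ψ := hW.toHom) hgen fun i => ?_
    rw [hφ]
    fin_cases i
    · exact e0
    · exact e1
    · rw [hj, pow_one, pow_one] at e2
      exact e2

theorem presOn_perm (hj : D.j = 2) (hy : sign D.y = -1) :
    PresOn ![D.a, c3 D.α D.β (D.e 0), D.y] 7 := by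
  obtain ⟨L, hL, h1, h2⟩ := D.exists_rels
  refine PresOn.of_list L hL (eq_top_of_alt_le (D.alt_le ?_ ?_ ?_) hy ?_) h1 ?_
  · exact Subgroup.subset_closure ⟨0, rfl⟩
  · exact Subgroup.subset_closure ⟨1, rfl⟩
  · exact Subgroup.subset_closure ⟨2, rfl⟩
  · exact Subgroup.subset_closure ⟨2, rfl⟩
  intro H _ y φ hy' hgen hφ
  obtain ⟨W, hW, e0, e1, e2, e3, e4⟩ := h2 H y hy'
  rw [hj] at e2
  have hW' := D.altOn_U ▸ hW
  have cU : ∀ i ∈ D.U, c3 D.α D.β i ∈ alternatingGroup Ω := fun i hi =>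
    sign_c3 (D.mem_U.1 hi).1 (D.mem_U.1 hi).2
  have TU : ∀ i ∈ D.T, i ∈ D.U := fun i hi => D.mem_U.2 ⟨D.ne_α hi, D.ne_β hi⟩
  obtain ⟨ψ, hψ, hψy⟩ := exists_hom_perm hW hy (y := y 2) (fun g hg => by
    refine PHom.ext_c3 D.ne (T := D.U) (by simp [mem_U]) (by simp [mem_U]) (hW'.conjL _)
      (hW'.conjR _ fun g hg => ?_) (fun i hi => ?_) (D.altOn_U ▸ hg)
    · rw [D.altOn_U] at hg ⊢
      exact (alternatingGroup.normal).conj_mem _ hg _
    · rw [y_c3]
      by_cases h : i ∈ D.T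
      · exact e4 i h
      · have h' := D.out hi h
        have e5 := e4 _ h'
        rw [show D.y (D.y⁻¹ i) = i by simp] at e5
        rw [← e5, show y 2 * (y 2 * W (c3 D.α D.β (D.y⁻¹ i)) * (y 2)⁻¹) * (y 2)⁻¹ =
          y 2 ^ 2 * W (c3 D.α D.β (D.y⁻¹ i)) * (y 2 ^ 2)⁻¹ by rw [pow_two]; group, ← e2,
          ← hW.conj (by simp [mem_alternatingGroup, hy]) (cU _ (TU _ h')), conj_c3]
        simp [pow_two, D.y_α, D.y_β]) e2.symm
  refine injective_of_section (ψ := ψ) hgen fun i => ?_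
  rw [hφ]
  fin_cases i
  · exact (hψ _ D.a_mem.1).trans e0
  · exact (hψ _ (D.c3_mem' (D.e_mem 0)).1).trans e1
  · exact hψy

end ADat

theorem exists_odd_cycle {Ω : Type*} [Fintype Ω] [DecidableEq Ω] {A : Finset Ω} {k k' : Ω}
    (hk : k ∉ A) (h : Even A.card ∨ (k' ∉ A ∧ k' ≠ k)) :
    ∃ u ∈ AltOn (insert k (insert k' A)), ∀ i ∈ A, ∃ m : ℕ, (u ^ m) k = i := by
  by_cases he : Even A.card
  · obtain ⟨f, h1, h2, h3⟩ := exists_cycle (insert k A)
    refine ⟨f, ⟨h3 (by rw [Finset.card_insert_of_notMem hk]; exact he.add_one),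
      fun x hx => h1 x fun h => hx ?_⟩, fun i hi => h2 k (by simp) i (by simp [hi])⟩
    simp only [Finset.mem_insert] at h ⊢; tauto
  · obtain ⟨h1', h2'⟩ := h.resolve_left he
    obtain ⟨f, h1, h2, h3⟩ := exists_cycle (insert k (insert k' A))
    refine ⟨f, ⟨h3 ?_, h1⟩, fun i hi => h2 k (by simp) i (by simp [hi])⟩
    rw [Finset.card_insert_of_notMem (by simp [hk, h2'.symm]), Finset.card_insert_of_notMem h1']
    exact (Nat.not_even_iff_odd.1 he).add_one.add_one

theorem sign_eq_one_of_pow {Ω : Type*} [Fintype Ω] [DecidableEq Ω] {g : Perm Ω} {m : ℕ}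
    (hm : Odd m) (h : g ^ m = 1) : sign g = 1 := by
  have h2 := congrArg sign h
  rw [map_pow, map_one] at h2
  rcases Int.units_eq_one_or (sign g) with h | h
  · exact h
  · rw [h, hm.neg_one_pow] at h2; exact absurd h2 (by decide)

theorem exists_aDat {Ω : Type} [Fintype Ω] [DecidableEq Ω] {p : ℕ} [hp : Fact p.Prime]
    (h5 : 5 ≤ p) (h1 : Fintype.card Ω + 1 ≤ 2 * p) (h2 : p + 2 ≤ Fintype.card Ω) (ε : ℤˣ) (j : ℕ)
    (hj : ε ^ j = 1) : ∃ D : ADat Ω p, sign D.y = ε ∧ D.j = j := by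
  have hodd : Odd p := hp.out.odd_of_ne_two (by omega)
  obtain ⟨ι⟩ : Nonempty (ZMod p ⊕ Bool ↪ Ω) :=
    Function.Embedding.nonempty_of_card_le (by simpa [ZMod.card] using h2)
  obtain ⟨r, hr⟩ := IsCyclic.exists_generator (α := (ZMod p)ˣ)
  have hr2 : (r : ZMod p) ^ 2 ≠ 1 := fun h => by
    have := orderOf_dvd_of_pow_eq_one (show r ^ 2 = 1 from Units.ext (by simpa using h))
    rw [orderOf_eq_card_of_forall_mem_zpowers hr, Nat.card_eq_fintype_card, ZMod.card_units] at this
    have := Nat.le_of_dvd two_pos this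
    omega
  have hr1 : (r : ZMod p) ≠ 1 := fun h => hr2 (by simp [h])
  have hr3 : (r : ZMod p) + 1 ≠ 0 := fun h => hr2 (by rw [eq_neg_of_add_eq_zero_left h]; simp)
  have hr' : ∀ x : (ZMod p)ˣ, ∃ k : ℕ, r ^ k = x := fun x => mem_powers_iff_mem_zpowers.2 (hr x)
  let e : ZMod p → Ω := fun k => ι (.inl k)
  have inj : Injective e := fun a b h => by simpa using ι.injective h
  let α := ι (.inr false)
  let β := ι (.inr true)
  have hne : α ≠ β := ι.injective.ne (by simp)
  let T : Finset Ω := Finset.univ.image e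
  have mem_T : ∀ i, i ∈ T ↔ ∃ k, e k = i := by simp [T]
  have hα : α ∉ T := by simp [mem_T, e, α]
  have hβ : β ∉ T := by simp [mem_T, e, β]
  have cT : T.card = p := by rw [Finset.card_image_of_injective _ inj]; simp [ZMod.card]
  have out : ∀ x, x ∉ insert α (insert β T) → x ∉ Set.range ι := by
    rintro _ hx ⟨k | (_ | _), rfl⟩ <;> simp [mem_T, e, α, β] at hx
  let a := (Equiv.Perm.sumCongr (Equiv.addRight (1 : ZMod p)) (1 : Perm Bool)).viaFintypeEmbedding ι
  let σ := Equiv.mulLeft₀ (r : ZMod p) r.ne_zero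
  let b := (Equiv.Perm.sumCongr σ (swap false true)).viaFintypeEmbedding ι
  have sa : sign a = 1 := by
    simp only [a, viaFintypeEmbedding_sign, sign_sumCongr, map_one, mul_one]
    refine sign_eq_one_of_pow hodd ?_
    have : ∀ (k : ℕ) (x : ZMod p), ((Equiv.addRight (1 : ZMod p) : Perm (ZMod p)) ^ k) x = x + k :=
      fun k => by
        induction k with
        | zero => simp
        | succ k ih => intro x; rw [pow_succ', Perm.mul_apply, ih]; simp [add_assoc]
    ext x; simp [this]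
  have sb : sign b = 1 := by
    have hs : σ.support = Finset.univ.erase 0 := by
      ext x
      simp only [Perm.mem_support, σ, mulLeft₀_apply, Finset.mem_erase, Finset.mem_univ, and_true]
      exact not_congr ⟨fun h => by
        by_contra hx
        exact hr1 (mul_right_cancel₀ hx (h.trans (one_mul x).symm)), fun h => by simp [h]⟩
    have pw : ∀ k : ℕ, (σ ^ k) 1 = (r : ZMod p) ^ k := fun k => by
      induction k with
      | zero => simp
      | succ k ih => rw [pow_succ', Perm.mul_apply, ih, pow_succ']; rfl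
    have hc : σ.IsCycle := ⟨1, by simpa [σ] using hr1, fun y hy => by
      have hy0 : y ≠ 0 := by simpa [hs] using Perm.mem_support.2 hy
      obtain ⟨k, hk⟩ := hr' (Units.mk0 y hy0)
      exact ⟨k, by rw [zpow_natCast, pw, ← Units.val_pow_eq_pow_val, hk]; rfl⟩⟩
    simp only [b, viaFintypeEmbedding_sign, sign_sumCongr, hc.sign, hs]
    rw [Finset.card_erase_of_mem (Finset.mem_univ _), Finset.card_univ, ZMod.card,
      (Nat.Odd.sub_odd hodd odd_one).neg_one_pow]
    decide
  obtain ⟨y, yα, yβ, yout, ys⟩ : ∃ y : Perm Ω, y α = α ∧ y β = β ∧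
      (∀ i, i ∉ insert α (insert β T) → y⁻¹ i ∈ T) ∧ sign y = ε := by
    obtain ⟨φ⟩ : Nonempty ({i // i ∉ insert α (insert β T)} ↪ ZMod p) := by
      refine Function.Embedding.nonempty_of_card_le ?_
      rw [Fintype.card_subtype_compl, Fintype.card_coe, Finset.card_insert_of_notMem
        (by simp [hne, hα]), Finset.card_insert_of_notMem hβ, cT, ZMod.card]
      omega
    obtain ⟨y, hy⟩ := Equiv.Perm.exists_extending_pair
      (f := fun x => ι (Sum.map φ id x))
      (g := Sum.elim (fun x : {i // i ∉ insert α (insert β T)} => x.1) fun c => ι (.inr c))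
      (ι.injective.comp (Sum.map_injective.2 ⟨φ.injective, injective_id⟩)) (by
        rintro (x | x) (x' | x') h
        · exact congrArg _ (Subtype.ext h)
        · exact absurd ⟨_, h.symm⟩ (out _ x.2)
        · exact absurd ⟨_, h⟩ (out _ x'.2)
        · simpa using h)
    have y1 : ∀ i, i ∉ insert α (insert β T) → y⁻¹ i ∈ T := fun i hi =>
      (mem_T _).2 ⟨φ ⟨i, hi⟩, by rw [eq_comm, inv_eq_iff_eq]; exact (hy (.inl ⟨i, hi⟩)).symm⟩
    by_cases hε : sign y = ε
    · exact ⟨y, hy (.inr false), hy (.inr true), y1, hε⟩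
    have n01 : e 0 ≠ e 1 := inj.ne zero_ne_one
    refine ⟨y * swap (e 0) (e 1), ?_, ?_, fun i hi => ?_, ?_⟩
    · rw [Perm.mul_apply, swap_apply_of_ne_of_ne (by simp [α, e]) (by simp [α, e])]
      exact hy (.inr false)
    · rw [Perm.mul_apply, swap_apply_of_ne_of_ne (by simp [β, e]) (by simp [β, e])]
      exact hy (.inr true)
    · rw [mul_inv_rev, Perm.mul_apply, swap_inv, swap_apply_def]
      split_ifs
      · exact (mem_T _).2 ⟨_, rfl⟩
      · exact (mem_T _).2 ⟨_, rfl⟩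
      · exact y1 i hi
    · rw [map_mul, sign_swap n01]
      rcases Int.units_eq_one_or (sign y) with e | e <;>
        rcases Int.units_eq_one_or ε with e' | e' <;> simp_all
  set T' := T.filter (y · ∈ T) with hT'
  have sub : T'.image y ⊆ T := by
    intro x hx
    obtain ⟨z, hz, rfl⟩ := Finset.mem_image.1 hx
    exact (Finset.mem_filter.1 hz).2
  have cA : (T \ T'.image y).card + T'.card = p := by
    rw [← Finset.card_image_of_injective T' y.injective, Finset.card_sdiff_add_card_eq_card sub, cT]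
  have c3' : 3 ≤ T'.card := by
    have e1 := Finset.card_filter_add_card_filter_not (s := T) (y · ∈ T)
    have e2 : (T.filter fun x => ¬ y x ∈ T).card ≤ (insert α (insert β T))ᶜ.card := by
      refine Finset.card_le_card_of_injOn y (fun x hx => ?_) y.injective.injOn
      simp only [Finset.coe_filter, Set.mem_ofPred_eq] at hx
      simp only [Finset.coe_compl, Set.mem_compl_iff, Finset.mem_coe, Finset.mem_insert, not_or]
      exact ⟨fun h => hα (y.injective (h.trans yα.symm) ▸ hx.1),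
        fun h => hβ (y.injective (h.trans yβ.symm) ▸ hx.1), hx.2⟩
    rw [Finset.card_compl, Finset.card_insert_of_notMem (by simp [hne, hα]),
      Finset.card_insert_of_notMem hβ, cT] at e2
    rw [← hT', cT] at e1
    omega
  obtain ⟨k0, k3, k4, k5, m0, m3, m4, m5, n03, n04, n34, n53, n54, n5⟩ : ∃ k0 k3 k4 k5, k0 ∈ T' ∧
      k3 ∈ T' ∧ k4 ∈ T' ∧ k5 ∈ T' ∧ k0 ≠ k3 ∧ k0 ≠ k4 ∧ k3 ≠ k4 ∧ k5 ≠ k3 ∧ k5 ≠ k4 ∧
      (Even (T \ T'.image y).card ∨ k5 ≠ k0) := by
    by_cases h4 : 3 < T'.card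
    · obtain ⟨a, b, c, d, ha, hb, hc, hd, h⟩ := Finset.three_lt_card_iff.1 h4
      exact ⟨a, b, c, d, ha, hb, hc, hd, by grind⟩
    · obtain ⟨a, b, c, ha, hb, hc, h⟩ := Finset.two_lt_card_iff.1 (show 2 < T'.card by omega)
      refine ⟨a, b, c, a, ha, hb, hc, ha, h.1, h.2.1, h.2.2, h.1, h.2.1, .inl ?_⟩
      rw [Nat.even_iff]; rw [Nat.odd_iff] at hodd; omega
  have im : ∀ k ∈ T', y k ∉ T \ T'.image y := fun k hk h =>
    (Finset.mem_sdiff.1 h).2 (Finset.mem_image_of_mem _ hk)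
  obtain ⟨u, hu, utr⟩ := exists_odd_cycle (im k0 m0) (k' := y k5)
    (n5.imp id fun h => ⟨im k5 m5, y.injective.ne h⟩)
  obtain ⟨v, hv, vtr⟩ := exists_odd_cycle (A := T \ T') (k := k3) (k' := k4) (by simp [m3])
    (.inr ⟨by simp [m4], n34.symm⟩)
  obtain ⟨h, hs, hfix, hαβ, htr⟩ := exists_mate hne (T := T')
    (fun h => hα (Finset.mem_filter.1 h).1) (fun h => hβ (Finset.mem_filter.1 h).1) 1
  have f0 := Finset.mem_filter.1 m0
  have f3 := Finset.mem_filter.1 m3
  have f4 := Finset.mem_filter.1 m4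
  have f5 := Finset.mem_filter.1 m5
  exact ⟨{
    r := r, hr := hr', hr1 := hr1, s := (((r : ZMod p) + 1)⁻¹).val
    hs := by
      rw [Int.cast_natCast, ZMod.natCast_zmod_val, eq_sub_iff_add_eq, ← mul_add_one, inv_mul_cancel₀ hr3]
    e := e, inj := inj, α := α, β := β, ne := hne, T := T, mem_T := mem_T, hα := hα, hβ := hβ
    a := a
    a_mem := ⟨sa, fun x hx => viaFintypeEmbedding_apply_notMem_range _ _ (out x hx)⟩
    a_e := fun k => viaFintypeEmbedding_apply_image _ _ _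
    a_α := viaFintypeEmbedding_apply_image _ _ _
    a_β := viaFintypeEmbedding_apply_image _ _ _
    b := b
    b_mem := ⟨sb, fun x hx => viaFintypeEmbedding_apply_notMem_range _ _ (out x hx)⟩
    b_e := fun k => viaFintypeEmbedding_apply_image _ _ _
    b_α := viaFintypeEmbedding_apply_image _ _ _
    b_β := viaFintypeEmbedding_apply_image _ _ _
    y := y, y_α := yα, y_β := yβ, y_out := yout, h := h, h_mem := ⟨hs, hfix⟩, h_αβ := hαβ
    k0 := k0, k3 := k3, k4 := k4, k0_mem := m0, k3_mem := m3, k4_mem := m4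
    ne03 := n03, ne04 := n04, ne34 := n34, h_tr := htr k0 m0, u := u, v := v
    u_mem := altOn_mono (by
      simp only [Finset.insert_subset_iff, f0.2, f5.2, true_and]; exact Finset.sdiff_subset) hu
    v_mem := altOn_mono (by
      simp only [Finset.insert_subset_iff, f3.1, f4.1, true_and]; exact Finset.sdiff_subset) hv
    u_tr := fun i hi hi' => utr i (Finset.mem_sdiff.2 ⟨hi, fun h => by
      obtain ⟨x, hx, rfl⟩ := Finset.mem_image.1 h
      exact hi' (by simpa using (Finset.mem_filter.1 hx).1)⟩)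
    v_tr := fun i hi hi' => vtr i (Finset.mem_sdiff.2 ⟨hi, fun h => hi' (Finset.mem_filter.1 h).2⟩)
    u_fix := hu.2 _ (by
      simp only [Finset.mem_insert, not_or]
      exact ⟨y.injective.ne n03.symm, y.injective.ne n53.symm, im k3 m3⟩)
    comm := commute_of_altOn hu (conj_mem_altOn hv y fun x hx => Finset.mem_image_of_mem y hx) (by
      rw [Finset.disjoint_right]
      intro z hz
      obtain ⟨x, hx, rfl⟩ := Finset.mem_image.1 hz
      simp only [Finset.mem_insert, not_or] at hx ⊢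
      rcases hx with rfl | rfl | hx
      · exact ⟨y.injective.ne n03.symm, y.injective.ne n53.symm, im _ m3⟩
      · exact ⟨y.injective.ne n04.symm, y.injective.ne n54.symm, im _ m4⟩
      · rw [Finset.mem_sdiff] at hx
        have : y x ∉ T := fun h => hx.2 (Finset.mem_filter.2 ⟨hx.1, h⟩)
        exact ⟨fun e => this (e ▸ f0.2), fun e => this (e ▸ f5.2),
          fun h => this (Finset.mem_sdiff.1 h).1⟩)
    j := j, sign_y := by rw [map_pow, ys, hj] }, ys, rfl⟩

theorem closure_pair_alt {Ω : Type*} [Fintype Ω] [DecidableEq Ω] {a b : alternatingGroup Ω}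
    (h : alternatingGroup Ω ≤ Subgroup.closure {(a : Perm Ω), (b : Perm Ω)}) :
    Subgroup.closure {a, b} = ⊤ := by
  have := closure_alt_eq_top (x := ![a, b]) (h.trans (Subgroup.closure_mono (by
    rintro _ (rfl | rfl)
    exacts [⟨0, rfl⟩, ⟨1, rfl⟩])))
  simpa [Matrix.range_cons, Set.pair_comm] using this

theorem hasPres_alt_large {n : ℕ} (hn : 7 ≤ n) :
    HasPres 3 7 (alternatingGroup (Fin n)) ∧ HasPres 2 8 (alternatingGroup (Fin n)) := by
  obtain ⟨p, hp, h5, h1, h2⟩ := exists_prime_alt n hn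
  haveI := Fact.mk hp
  obtain ⟨D, -, hj⟩ := exists_aDat (Ω := Fin n) h5 (by simpa) (by simpa) 1 1 rfl
  obtain ⟨x, hx, h1⟩ := D.presOn_alt hj
  obtain ⟨g, hg, hle⟩ := exists_mate_c3 D.ne (D.ne_α (D.e_mem 0)) (D.ne_β (D.e_mem 0)) 1
  exact ⟨hx.hasPres, (hx.pair' 1 (b := ⟨g, hg⟩) (closure_pair_alt (by rwa [h1]))).hasPres⟩

theorem hasPres_perm_large {n : ℕ} (hn : 7 ≤ n) :
    HasPres 3 7 (Perm (Fin n)) ∧ HasPres 2 8 (Perm (Fin n)) := by
  obtain ⟨p, hp, h5, h1, h2⟩ := exists_prime_alt n hn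
  haveI := Fact.mk hp
  obtain ⟨D, hy, hj⟩ := exists_aDat (Ω := Fin n) h5 (by simpa) (by simpa) (-1) 2 rfl
  have hx := D.presOn_perm hj hy
  obtain ⟨g, hg, hle⟩ := exists_mate_c3 D.ne (D.ne_α (D.e_mem 0)) (D.ne_β (D.e_mem 0)) (-1)
  exact ⟨hx.hasPres, (hx.pair' 1 (b := g) (eq_top_of_alt_le hle hg
    (Subgroup.subset_closure (by simp)))).hasPres⟩

end CF.Known.Pres
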