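import Cfsg.Agent.Known.Pres.U3
import Cfsg.Agent.Known.Gen2.EH
import Cfsg.Agent.Known.Gen2.SL
import Cfsg.Agent.Schur.U43
import Cfsg.Agent.XT.WE
import Cfsg.Agent.Classical.WE6
import Cfsg.Agent.Known.Pres.UGlueB
import Cfsg.Agent.BN.UStep

/-! Presentations of `SU₄(2)` and `SU₄(3)`; two generators for `SU_n(q)`. -/

set_option autoImplicit false

namespace CF.Known.Pres

open Function Cfsg CF.Comp CF.Schur.Pc
open FreeGroup (lift of lift_apply_of)
open scoped commutatorElement

universe u v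

theorem hasPres_of_presents {G : Type u} [Group G] {rels : List (List ℕ)} {m : ℕ} {f : ℕ → G}
    (h : Presents rels m f) (e : Subgroup.closure (Set.range fun i : Fin m => f i) = ⊤) :
    HasPres m rels.length G := by
  let z {H : Type} [Group H] (y : Fin m → H) (i : ℕ) : H := if h : i < m then y ⟨i, h⟩ else 1
  have k : ∀ {H : Type _} [Group H] (y : Fin m → H) (y' : ℕ → H), (∀ i : Fin m, y' i = y i) →
      ∀ w ∈ rels, lift y (ev (z of) w) = ev y' w := fun y y' e w hw => by
    rw [map_ev]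
    exact ev_congr (fun i hi => by simp [z, hi, ← e]) (lettersLe_iff.1 h.2.1 w hw)
  refine (PresOn.of_list (rels.map (ev (z of))) (by simp) e (List.forall_mem_map.2 fun w hw => ?_)
    fun H _ y φ h1 h2 h3 => ?_).hasPres
  · rw [map_ev]
    exact (ev_congr (fun i hi => by simp [z, hi]) (lettersLe_iff.1 h.2.1 w hw)).trans
      (h.1 w hw)
  · obtain ⟨ψ, hψ⟩ := h.2.2 H (z y) fun w hw =>
      (k y _ (by simp [z]) w hw).symm.trans (h1 _ (List.mem_map_of_mem hw))
    exact injective_of_section (ψ := ψ) h2 fun i => by rw [h3, hψ i i.2]; simp [z]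

theorem HasPres.cext {G : Type u} [Group G] [Finite G] {Q : Type v} [Group Q] {g r : ℕ}
    (h : HasPres g r Q) (π : G →* Q) (hπ : Surjective π) {z : G} (hz : z ∈ Subgroup.center G)
    (hk : π.ker = Subgroup.zpowers z) : HasPres (g + 1) (r + g + 1) G := by
  obtain ⟨x₀, hx⟩ := h.exists_presOn
  obtain ⟨L, l1, l2, l3⟩ := hx.exists_list
  choose x e using fun i => hπ (x₀ i)
  obtain rfl : x₀ = fun i => π (x i) := funext fun i => (e i).symm
  have : ∀ w : FreeGroup (Fin g), ∃ k : ℤ, w ∈ L → z ^ k = lift x w := fun w => by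
    by_cases hw : w ∈ L
    · obtain ⟨k, hk⟩ : lift x w ∈ Subgroup.zpowers z := by
        rw [← hk, MonoidHom.mem_ker, map_lift, l2 w hw]
      exact ⟨k, fun _ => hk⟩
    · exact ⟨0, fun e => absurd e hw⟩
  choose k hk' using this
  have π1 : π z = 1 := hk.ge (Subgroup.mem_zpowers z)
  refine (PresOn.of_list (x := fun o : Option (Fin g) => o.elim z x)
    (L.map (fun w => lift (fun i => of (some i)) w * (of none ^ k w)⁻¹) ++
      List.ofFn (fun i : Fin g => ⁅of (none : Option (Fin g)), of (some i)⁆) ++ [of none ^ orderOf z]) (by simp; omega)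
    ((Subgroup.eq_top_iff' _).2 fun a => ?_) ?_ fun H _ y φ h1 h2 h3 => ?_).hasPres_card (by simp)
  · obtain ⟨w, hw⟩ := surj_iff.2 hx.closure_eq (π a)
    have : a * (lift x w)⁻¹ ∈ π.ker := by rw [MonoidHom.mem_ker, map_mul, map_inv, map_lift, hw]; simp
    rw [← inv_mul_cancel_right a (lift x w)]
    refine mul_mem (Subgroup.zpowers_le.2 (Subgroup.subset_closure ?_) (hk ▸ this)) ?_
    · exact ⟨none, rfl⟩
    exact Subgroup.closure_mono (by rintro _ ⟨i, rfl⟩; exact ⟨some i, rfl⟩)
      ((FreeGroup.range_lift_eq_closure (f := x)).le ⟨w, rfl⟩)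
  · simp only [List.forall_mem_append, List.forall_mem_map, List.forall_mem_ofFn_iff,
      List.forall_mem_singleton, map_mul, map_inv, map_zpow, map_pow, lift_apply_of, map_lift,
      map_commutatorElement, commutatorElement_eq_one_iff_mul_comm, mul_inv_eq_one]
    exact ⟨⟨fun w hw => (hk' w hw).symm,
      fun i => (Subgroup.mem_center_iff.1 hz _).symm⟩, pow_orderOf_eq_one z⟩
  simp only [List.forall_mem_append, List.forall_mem_map, List.forall_mem_ofFn_iff,
    List.forall_mem_singleton, map_mul, map_inv, map_zpow, map_pow, lift_apply_of, map_lift,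
    map_commutatorElement, commutatorElement_eq_one_iff_mul_comm, mul_inv_eq_one] at h1
  obtain ⟨⟨y1, y2⟩, y3⟩ := h1
  have c : y none ∈ Subgroup.center H := by
    rw [← Subgroup.centralizer_univ, ← Subgroup.coe_top, ← h2, Subgroup.centralizer_closure]
    rintro _ ⟨_ | i, rfl⟩
    exacts [rfl, (y2 i).symm]
  have : (Subgroup.zpowers (y none)).Normal := ⟨fun a ha b => by
    rwa [Subgroup.mem_center_iff.1 (Subgroup.zpowers_le.2 c ha), mul_inv_cancel_right]⟩
  let p := QuotientGroup.mk' (Subgroup.zpowers (y none))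
  have p1 : p (y none) = 1 := (QuotientGroup.eq_one_iff _).2 (Subgroup.mem_zpowers _)
  obtain ⟨ψ, hψ⟩ := l3 _ (fun i => p (y (some i))) fun w hw => by
    rw [← map_lift, y1 w hw, map_zpow, p1, one_zpow]
  have e : ψ.comp (π.comp φ) = p := MonoidHom.eq_of_eqOn_dense h2 (by
    rintro _ ⟨_ | i, rfl⟩ <;> simp [h3, hψ, p1, π1])
  refine (injective_iff_map_eq_one φ).2 fun a ha => ?_
  obtain ⟨n, rfl⟩ : a ∈ Subgroup.zpowers (y none) :=
    (QuotientGroup.eq_one_iff _).1 (show p a = 1 by simp [← e, ha])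
  simp only [map_zpow, h3] at ha
  obtain ⟨j, rfl⟩ := orderOf_dvd_iff_zpow_eq_one.2 ha
  simp [zpow_mul, y3]

theorem HasPres.of_center {G : Type u} [Group G] [Finite G] [IsCyclic (Subgroup.center G)] {g r : ℕ}
    (h : HasPres g r (G ⧸ Subgroup.center G)) : HasPres (g + 1) (r + g + 1) G := by
  obtain ⟨z, hz⟩ := (Subgroup.isCyclic_iff_exists_zpowers_eq_top _).1 ‹_›
  exact h.cext (QuotientGroup.mk' _) (QuotientGroup.mk'_surjective _)
    (hz ▸ Subgroup.mem_zpowers z) ((QuotientGroup.ker_mk' _).trans hz.symm)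

theorem closure_fin {G : Type u} [Group G] {f : ℕ → G} {m : ℕ} :
    clo f (gensW m) ≤ Subgroup.closure (Set.range fun i : Fin m => f i) := by
  induction m with
  | zero => exact clo_le.2 (by simp [gensW])
  | succ m ih =>
    refine clo_le.2 (List.forall_mem_cons.2 ⟨?_, fun w hw => ?_⟩)
    · exact (ev_single f m).symm ▸ Subgroup.subset_closure ⟨Fin.last m, rfl⟩
    · exact Subgroup.closure_mono (by rintro _ ⟨i, rfl⟩; exact ⟨i.castSucc, rfl⟩)
        (ih (ev_mem_clo f hw))

variable {F : Type u} [Field F] [Fintype F]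

open Schur.U43 in
theorem hasPres_PSU43 (hF : Fintype.card F = 3 ^ 2) : HasPres 5 19 (PSU 4 F 3) := by
  have hc := card_PSU_mul hF (d := 4) (by norm_num)
  replace hc : Nat.card (PSU 4 F 3) = 3265920 := by
    simp [Finset.prod_range_succ] at hc
    norm_num at hc
    omega
  obtain ⟨el, hT⟩ := exists_ok_nine hF
  obtain ⟨_, _, D, g, h2, h3⟩ := linU.hasReps_PSU hT hF (by norm_num) memU
  have : Finite (PSU 4 F 3) := Nat.finite_of_card_ne_zero (by rw [hc]; decide)
  have M := mp (mdl_of_exact (chU.exact h2 h3 (H := ⊤) (fun _ => trivial) (card_top_eq hc).le)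
    fun _ => trivial) (card_top_eq hc)
  have e := M.clo_eq (m := 5) (ch := Sp) (card_top_eq hc) (by decide) (by decide +kernel)
  exact hasPres_of_presents (presents_top_of_bound (bndp (ug_rels _))
    (rels_of_relNo (M.sameW (k := 9) (by decide)) rp) (by decide +kernel) e hc.ge)
    (top_unique (e.ge.trans closure_fin))

theorem hasPres_of_e6 {G : Type} [Group G] {s : ℕ → G}
    (hr : ∀ w ∈ Classical.e6Rels, (w.map s).prod = 1)
    (hs : Subgroup.closure (s '' Set.Iio 6) = ⊤) (hc : Nat.card (commutator G) = 25920) :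
    HasPres 5 15 (commutator G) := by
  let f (i : ℕ) : G := [s 0 * s 1, s 1 * s 2, s 2 * s 4, s 4 * s 5, s 3 * s 2].getD i 1
  have i1 : ∀ i < 6, s i * s i = 1 := fun i hi => by
    simpa using hr [i, i] (by simp [Classical.e6Rels, hi])
  have i2 : ∀ i < 6, (s i)⁻¹ = s i := fun i hi => inv_eq_of_mul_eq_one_left (i1 i hi)
  have i3 : ∀ i < 6, ∀ x, s i * (s i * x) = x := fun i hi x => by rw [← mul_assoc, i1 i hi, one_mul]
  simp only [Classical.e6Rels, Classical.e6Edges, Classical.e6Non, List.forall_mem_append,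
    List.map_cons, List.map_nil, List.forall_mem_cons, List.prod_cons, List.prod_nil,
    mul_one] at hr
  obtain ⟨⟨-, a1, a2, a3, a4, a5, -⟩, b1, b2, b3, b4, b5, b6, b7, b8, b9, b10, -⟩ := hr
  have a6 := congrArg (·⁻¹) a3
  have b11 := congrArg (·⁻¹) b5
  simp [i2, mul_assoc] at a6 b11
  have hf : ∀ r ∈ XT.WE.R5, ev f r = 1 := by
    simp [XT.WE.R5, evL, f, i2, i3, mul_assoc, *]
  have k : ∀ i < 6, ∀ j < 6, s i * (s j * (s i * (s j * (s i * s j)))) = 1 →
      s i * s j ∈ commutator G := fun i hi j hj e => by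
    have : s i * s j * ⁅s i, s i * s j⁆⁻¹ = 1 := by
      simpa only [commutatorElement_def, mul_inv_rev, i2 i hi, i2 j hj, i3 i hi, mul_assoc,
        i1 i hi, mul_one] using e
    rw [mul_inv_eq_one.1 this]
    exact Subgroup.commutator_mem_commutator trivial trivial
  have hH : ∀ i, f i ∈ commutator G := fun i => by
    match i with
    | 0 => exact k 0 (by decide) 1 (by decide) a1
    | 1 => exact k 1 (by decide) 2 (by decide) a2
    | 2 => exact k 2 (by decide) 4 (by decide) a4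
    | 3 => exact k 4 (by decide) 5 (by decide) a5
    | 4 => exact k 3 (by decide) 2 (by decide) a6
    | i + 5 => exact one_mem _
  have e : clo f (gensW 5) = commutator G := by
    refine le_antisymm (clo_le.2 fun w _ => ev_mem hH w) ?_
    set K := clo f (gensW 5)
    have m : ∀ i < 5, f i ∈ K := fun i hi => ev_single f i ▸ ev_mem_clo f (mem_gensW hi)
    have m2 : ∀ i < 6, s 2 * s i ∈ K := fun i hi => by
      interval_cases i
      · simpa [f, i2, i3, mul_assoc] using inv_mem (mul_mem (m 0 (by decide)) (m 1 (by decide)))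
      · simpa [f, i2] using inv_mem (m 1 (by decide))
      · simp [i1]
      · simpa [f, i2] using inv_mem (m 4 (by decide))
      · exact m 2 (by decide)
      · simpa [f, i3, mul_assoc] using mul_mem (m 2 (by decide)) (m 3 (by decide))
    have := Subgroup.index_dvd_two_iff'.2 ⟨s 0, fun b => ((idx2 hs (K := K) (by
      rintro _ ⟨i, hi, rfl⟩ _ ⟨j, hj, rfl⟩
      simpa [i2 i hi, i2, i3, mul_assoc] using mul_mem (inv_mem (m2 i hi)) (m2 j hj)) b).imp_right
        fun h => h _ ⟨0, by simp, rfl⟩).symm⟩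
    rcases (Nat.dvd_prime Nat.prime_two).1 this with h | h
    · exact Subgroup.index_eq_one.1 h ▸ le_top
    · exact Subgroup.commutator_le.2 fun a _ b _ => by
        simp [commutatorElement_def, Subgroup.mul_mem_iff_of_index_two h]; tauto
  refine hasPres_of_presents (presents_of_bound XT.WE.bnd hf (by decide +kernel) hH e hc.ge) ?_
  rw [eq_top_iff, ← Subgroup.map_subtype_le_map_subtype, MonoidHom.map_closure, ← Set.range_comp,
    ← MonoidHom.range_eq_map, Subgroup.range_subtype]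
  exact e.ge.trans closure_fin

theorem hasPres_PSU42 (hF : Fintype.card F = 2 ^ 2) : HasPres 5 15 (PSU 4 F 2) := by
  obtain ⟨e⟩ := Classical.PSU_four_two_equiv (K := ZMod 3) hF rfl
  obtain ⟨e'⟩ := Classical.Omega6_minus_two_equiv_PSp (K := ZMod 3) rfl
  exact (hasPres_of_e6 Classical.e6Rels_root2 Classical.closure_root2
    Classical.card_Omega6_minus_two).of_equiv (e'.trans e.symm)

theorem two_of_equiv {G G' : Type*} [Group G] [Group G'] (e : G ≃* G')
    (h : ∃ a b : G, Subgroup.closure {a, b} = ⊤) : ∃ a b : G', Subgroup.closure {a, b} = ⊤ := by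
  obtain ⟨a, b, h⟩ := h
  exact ⟨e.toMonoidHom a, e.toMonoidHom b, by rw [← Set.image_pair, ← MonoidHom.map_closure, h,
    Subgroup.map_top_of_surjective _ e.surjective]⟩

theorem two_of_center {G : Type*} [Group G] (hG : commutator G = ⊤)
    (h : ∃ a b : G ⧸ Subgroup.center G, Subgroup.closure {a, b} = ⊤) :
    ∃ a b : G, Subgroup.closure {a, b} = ⊤ := by
  obtain ⟨a, b, h⟩ := h
  obtain ⟨a, rfl⟩ := QuotientGroup.mk'_surjective _ a
  obtain ⟨b, rfl⟩ := QuotientGroup.mk'_surjective _ b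
  rw [← Set.image_pair, ← MonoidHom.map_closure] at h
  have k : ∀ g : G, ∃ x ∈ Subgroup.closure {a, b}, ∃ z ∈ Subgroup.center G, x * z = g := fun g => by
    obtain ⟨x, hx, e⟩ := h.ge (Subgroup.mem_top (QuotientGroup.mk' _ g))
    exact ⟨x, hx, _, QuotientGroup.eq.1 e, by simp⟩
  refine ⟨a, b, top_unique (hG.ge.trans (Subgroup.commutator_le.2 fun g _ g' _ => ?_))⟩
  obtain ⟨x, hx, z, hz, rfl⟩ := k g
  obtain ⟨x', hx', z', hz', rfl⟩ := k g'
  rw [Schur.commutatorElement_mul_center hz hz']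
  exact mul_mem (mul_mem (mul_mem hx hx') (inv_mem hx)) (inv_mem hx')

open Matrix U3 in
theorem two_U32 [StarRing F] (hF : Fintype.card F = 2 ^ 2) (hs : ∀ x : F, star x = x ^ 2) :
    ∃ a b : U3 F, Subgroup.closure {a, b} = ⊤ := by
  obtain ⟨_, ω, hω⟩ := exists_omega_four hF
  have h2 : (2 : F) = 0 := CharP.cast_eq_zero F 2
  have h3 : star ω = 1 + ω := (hs ω).trans hω
  have h4 : ∀ a : F, a = 0 ∨ a = 1 ∨ a = ω ∨ a = 1 + ω := fun a => by
    have := FiniteField.pow_card a
    rw [hF] at this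
    grind
  let ζ := Units.mk0 ω (by grind)
  have hζ : IsGen ζ := fun a => by
    rcases h4 a with e | e | e | e
    exacts [absurd e a.ne_zero, ⟨0, Units.ext (by simp [e])⟩, ⟨1, Units.ext (by simp [ζ, e])⟩,
      ⟨2, Units.ext (by simp [ζ, e, hω])⟩]
  let x : UT F := ⟨1, ω, by rw [h3, star_one]; grind⟩
  let y : UT F := ⟨ω, ω, by rw [h3]; grind⟩
  have e1 : (u x).1.1 = !![1, 1, ω; 0, 1, 1; 0, 0, 1] := by
    rw [val_u]; apply m3 <;> simp [x] <;> grind
  have e2 : (u y).1.1 = !![1, 1 + ω, ω; 0, 1, ω; 0, 0, 1] := by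
    rw [val_u]; apply m3 <;> simp [y, h3] <;> grind
  have e3 : (h ζ).1.1 = !![ω, 0, 0; 0, ω, 0; 0, 0, ω] := by
    rw [val_h]; apply m3 <;> simp [ζ, h3] <;> grind
  have e4 : (t : U3 F).1.1 = !![0, 0, 1; 0, 1, 0; 1, 0, 0] := by
    rw [val_t]; apply m3 <;> grind
  obtain ⟨A, hA⟩ : ∃ A : U3 F, A.1.1 = !![ω, ω, 1; 0, ω, ω; 0, 0, ω] :=
    ⟨u x * u x * u x * h ζ, by simp only [val_mul, e1, e3, mul_fin_three]; apply m3 <;> grind⟩
  obtain ⟨B, hB⟩ : ∃ B : U3 F, B.1.1 = !![1 + ω, 1 + ω, ω; ω, 1, ω; ω, 1 + ω, 1 + ω] :=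
    ⟨u x * t * u x * u y * h ζ, by
      simp only [val_mul, e1, e2, e3, e4, mul_fin_three]; apply m3 <;> grind⟩
  refine ⟨A, B, (Subgroup.eq_top_iff' _).2 fun g => ?_⟩
  set K := Subgroup.closure {A, B}
  have a : A ∈ K := Subgroup.subset_closure (.inl rfl)
  have b : B ∈ K := Subgroup.subset_closure (.inr rfl)
  have k1 : t ∈ K := ext' (g := B * B) (g' := t) (by
    simp only [val_mul, hB, e4, mul_fin_three]; apply m3 <;> grind) ▸ mul_mem b b
  have k2 : u x ∈ K := ext' (g := A * A * A) (g' := u x) (by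
    simp only [val_mul, hA, e1, mul_fin_three]; apply m3 <;> grind) ▸ mul_mem (mul_mem a a) a
  have k3 : u y ∈ K := ext' (g := A * t * A * B) (g' := u y) (by
    simp only [val_mul, hA, hB, e2, e4, mul_fin_three]; apply m3 <;> grind) ▸
      mul_mem (mul_mem (mul_mem a k1) a) b
  have k4 : h ζ ∈ K := ext' (g := A * u x) (g' := h ζ) (by
    simp only [val_mul, hA, e1, e3, mul_fin_three]; apply m3 <;> grind) ▸ mul_mem a k2
  have k5 : K.comap u = ⊤ := UT.eq_top (c := ω) (by grind) fun a => by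
    rcases h4 a with rfl | rfl | rfl | rfl
    exacts [⟨1, one_mem _, rfl⟩, ⟨x, k2, rfl⟩, ⟨y, k3, rfl⟩, ⟨x * y, mul_mem k2 k3, rfl⟩]
  have k6 : ∀ b, ι ζ b ∈ K := fun b => by
    rw [ι_eq, map_zpow]; exact mul_mem (k5.ge trivial) (zpow_mem k4 _)
  by_cases hg : g ∈ (ι ζ).range
  · obtain ⟨b, rfl⟩ := hg
    exact k6 b
  · obtain ⟨b, b', rfl⟩ := exists_big hζ hg
    exact mul_mem (mul_mem (k6 b) k1) (k6 b')

theorem two_SU {q k : ℕ} (hF : Fintype.card F = q ^ 2) (hk : 2 ≤ k) (h : k = 2 → q ≠ 3) :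
    ∃ a b : SU k F q, Subgroup.closure {a, b} = ⊤ := by
  have q2 := Geom.two_le_of_card_eq_sq hF
  obtain rfl | hk := hk.eq_or_lt
  · obtain rfl | h2 := q2.eq_or_lt
    · let a : Matrix.SpecialLinearGroup (Fin 2) (ZMod 2) := ⟨!![1, 1; 0, 1], by decide⟩
      let b : Matrix.SpecialLinearGroup (Fin 2) (ZMod 2) := ⟨!![0, 1; 1, 0], by decide⟩
      have e : ∀ g, g = a * a ∨ g = a * a * a ∨ g = a * a * b ∨ g = a * b ∨ g = b * a ∨
        g = a * b * a := by decide +kernel
      refine two_of_equiv (Classical.SU_two_equiv (F := ZMod 2) rfl hF).some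
        ⟨a, b, (Subgroup.eq_top_iff' _).2 fun g => ?_⟩
      have k1 : a ∈ Subgroup.closure {a, b} := Subgroup.subset_closure (.inl rfl)
      have k2 : b ∈ Subgroup.closure {a, b} := Subgroup.subset_closure (.inr rfl)
      rcases e g with rfl | rfl | rfl | rfl | rfl | rfl <;> apply_rules [mul_mem]
    · obtain ⟨σ, hσ⟩ := Phan.exists_QF hF
      obtain ⟨K, -, e, hK, -⟩ := hσ.sl2_model
      have := Fintype.ofFinite K
      exact two_of_equiv e (Gen2.two_SL2 (by have := h rfl; rw [← Nat.card_eq_fintype_card]; omega))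
  by_cases e : k = 3 ∧ q = 2
  · obtain ⟨rfl, rfl⟩ := e
    obtain ⟨_, hs, ⟨e⟩⟩ := exists_U3 hF
    exact two_of_equiv e (two_U32 hF hs)
  · exact two_of_center (Geom.commutator_SU_eq_top hF k hk e) (Gen2.two_PSU hF hk (by tauto))

theorem hasPres_SU4 {q : ℕ} (hF : Fintype.card F = q ^ 2) {r : ℕ} (h : HasPres 5 r (PSU 4 F q)) :
    HasPres 3 (r + 5) (SU 4 F q) :=
  have := BN.isCyclic_center_SU hF (n := 4) (by omega)
  (h.two (Gen2.two_PSU hF (by omega) (by omega))).of_center

theorem hasPres_SU_aux {q N g r m r' : ℕ} (hF : Fintype.card F = q ^ 2) (hN : 4 ≤ N)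
    (P : HasPres g r (alternatingGroup (Fin N)))
    (P' : ∀ l, 2 ≤ l → l < N → HasPres m r' (Equiv.Perm {a // a ∉ Phan.Iv N 0 l}))
    (h : q ≤ 3 → 5 ≤ N) : HasPres (3 + g) (r + m * 2 + 28) (SU N F q) := by
  obtain ⟨σ, hσ⟩ := Phan.exists_QF hF
  obtain rfl | rfl | q4 : q = 2 ∨ q = 3 ∨ 4 ≤ q := by
    have := Geom.two_le_of_card_eq_sq hF; omega
  · have := h (by omega)
    exact (glue hσ (n := 2) (c := 4) (a := min 2 (N - 4)) (b := min 5 (N - 1)) (by omega) (by omega)
      (by omega) (hasPres_SU4 hF (hasPres_PSU42 hF)) P (hasPres_two' _).2 (P' 3 (by omega) (by omega))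
      (fun _ => two_SU hF) (by omega) (by omega) (by omega) (by omega) (by omega) (by omega)
      (by omega) (by omega)).mono (by omega)
  · have := h (by omega)
    exact (glue hσ (n := 2) (c := 0) (a := 1) (b := 3) (by omega) (by omega)
      (by omega) (hasPres_SU4 hF (hasPres_PSU43 hF)) P (hasPres_two' _).2 (P' 3 (by omega) (by omega))
      (fun _ => two_SU hF) (by omega) (by omega) (by omega) (by omega) (by omega) (by omega)
      (by omega) (by omega)).mono (by omega)
  · have := alternatingGroup.isCyclic_of_card_le_three (α := Phan.Iv N 0 2)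
      (by rw [Nat.card_eq_fintype_card, Fintype.card_coe, Phan.card_Iv (by omega)])
    exact (glue hσ (n := 1) (c := 4) (a := 1) (b := 3) (by omega) (by omega)
      (by omega) (hasPres_SU3 hF (by omega)) P (hasPres_of_isCyclic _) (P' 2 (by omega) (by omega))
      (fun _ => two_SU hF) (by omega) (by omega) (by omega) (by omega) (by omega) (by omega)
      (by omega) (by omega)).mono (by omega)

theorem hasPres_SU_small {q N : ℕ} (hF : Fintype.card F = q ^ 2) (hN : N = 4 ∨ N = 5) :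
    HasPres 6 35 (SU N F q) := by
  by_cases e : N = 4 ∧ q ≤ 3
  · obtain ⟨rfl, e⟩ := e
    obtain rfl | rfl : q = 2 ∨ q = 3 := by have := Geom.two_le_of_card_eq_sq hF; omega
    exacts [(hasPres_SU4 hF (hasPres_PSU42 hF)).add' (by omega) (by omega),
      (hasPres_SU4 hF (hasPres_PSU43 hF)).add' (by omega) (by omega)]
  refine (hasPres_SU_aux (g := 2) (r := 3) (m := 1) (r' := 1) hF (by omega) ?_ (fun l l1 l2 => ?_)
    (by omega)).add' (by omega) (by omega)
  · rcases hN with rfl | rfl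
    exacts [presOn_a4.hasPres, presOn_a5.hasPres]
  · have : IsCyclic (Equiv.Perm {a // a ∉ Phan.Iv N 0 l}) := isCyclic_of_card_dvd_prime (p := 2) (by
      rw [Nat.card_perm, Nat.card_eq_fintype_card, Fintype.card_subtype_compl, Fintype.card_fin,
        Fintype.card_coe, Phan.card_Iv l2]
      exact Nat.factorial_dvd_factorial (n := 2) (by omega))
    exact hasPres_of_isCyclic _

theorem hasPres_SU {q N : ℕ} (hF : Fintype.card F = q ^ 2) (hN : 4 ≤ N) :
    HasPres 6 39 (SU N F q) := by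
  obtain rfl | hN := hN.eq_or_lt
  · exact (hasPres_SU_small hF (.inl rfl)).mono (by omega)
  · exact hasPres_SU_aux hF hN.le (hasPres_three (by omega)).2 (fun _ _ _ => (hasPres_two' _).1)
      fun _ => hN

end CF.Known.Pres
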